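import Groth.Agent.Lib.GrTilde.QCoh
import Groth.Agent.Lib.Ample.ModTwist
import Groth.Agent.Lib.InvExt.Transfer

/-!
# The product `M(n)~ ⊗ O(k) → M(n + k)~`; generators of `O(k)`
-/

universe u

set_option backward.isDefEq.respectTransparency false

open AlgebraicGeometry CategoryTheory TopologicalSpace Opposite MonoidalCategory
open GrothLib.InvExt (mres IsGen)
open GrothLib.Ample (res)
open GrothLib.Ample.ProjTwist (ev evT)

noncomputable section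

namespace GrothLib.GrTilde

variable {R A : Type u} [CommRing R] [CommRing A] [Algebra R A] {𝒜 : ℕ → Submodule R A} [GradedAlgebra 𝒜]
variable {M : Type u} [AddCommGroup M] [Module R M] [Module A M] {ℳ : ℕ → Submodule R M}
variable [SetLike.GradedSMul 𝒜 ℳ]

theorem exists_rep_mul {n k l : ℤ} (h : n + k = l) {V : (Proj 𝒜).Opens}
    (m : Γ(_root_.GrTilde.tilde 𝒜 ℳ n, V)) (t : Γ(Twist.twist 𝒜 k, V)) (x : V) :
    ∃ (U : (Proj 𝒜).Opens) (_ : x.1 ∈ U) (hU : U ≤ V) (p q : ℕ) (a : M) (s : A) (_ : a ∈ ℳ p) (_ : s ∈ 𝒜 q)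
      (nin : ∀ y : U, s ∉ y.1.asHomogeneousIdeal) (_ : (p : ℤ) = q + l ∨ a = 0),
      ∀ y : U, evT ⟨y.1, hU y.2⟩ t • evM ⟨y.1, hU y.2⟩ m = LocalizedModule.mk a ⟨s, nin y⟩ := by
  obtain ⟨U₁, hx₁, i₁, p₁, q₁, ⟨a, ha⟩, ⟨s, hs⟩, nin₁, hd₁, hw₁⟩ :=
    (show _root_.GrTilde.sect 𝒜 ℳ n (op V) from m).2 x
  obtain ⟨U₂, hx₂, i₂, p₂, q₂, ⟨b, hb⟩, ⟨r, hr⟩, nin₂, hd₂, hw₂⟩ :=
    (show Twist.sectN k (op V) from t).2 x
  replace hd₁ : (p₁ : ℤ) = q₁ + n ∨ a = 0 := hd₁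
  replace hd₂ : (p₂ : ℤ) = q₂ + k ∨ b = 0 := hd₂
  refine ⟨U₁ ⊓ U₂, ⟨hx₁, hx₂⟩, inf_le_left.trans (leOfHom i₁), p₂ + p₁, q₂ + q₁, b • a, r * s, smul_mem hb ha,
    SetLike.mul_mem_graded hr hs, fun y => mem_basicOpen_mul.mpr ⟨nin₂ ⟨y.1, y.2.2⟩, nin₁ ⟨y.1, y.2.1⟩⟩, ?_, ?_⟩
  · rcases hd₁ with hd₁ | hd₁
    · rcases hd₂ with hd₂ | hd₂
      · left; push_cast; omega
      · right; rw [hd₂, zero_smul]
    · right; rw [hd₁, smul_zero]
  · intro y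
    have e1 := hw₁ ⟨y.1, y.2.1⟩
    have e2 := hw₂ ⟨y.1, y.2.2⟩
    refine (congrArg₂ (· • ·) e2 e1).trans ?_
    exact LocalizedModule.mk_smul_mk _ _ _ _

/-- The product of a section of `M(n)~` and a section of `O(k)`. -/
def mulSect {n k l : ℤ} (h : n + k = l) {V : (Proj 𝒜).Opens}
    (m : Γ(_root_.GrTilde.tilde 𝒜 ℳ n, V)) (t : Γ(Twist.twist 𝒜 k, V)) : Γ(_root_.GrTilde.tilde 𝒜 ℳ l, V) :=
  ⟨fun x => ⟨evT x t • evM x m, by
      obtain ⟨U, hx, hU, p, q, a, s, ha, hs, nin, hd, hw⟩ := exists_rep_mul h m t x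
      rw [show evT x t • evM x m = _ from hw ⟨x.1, hx⟩]
      rcases hd with hd | hd
      · exact Submodule.subset_span ⟨p, q, ⟨a, ha⟩, ⟨s, hs⟩, nin ⟨x.1, hx⟩, hd, rfl⟩
      · rw [hd, LocalizedModule.zero_mk]; exact zero_mem _⟩,
    fun x => by
      obtain ⟨U, hx, hU, p, q, a, s, ha, hs, nin, hd, hw⟩ := exists_rep_mul h m t x
      exact ⟨U, hx, homOfLE hU, p, q, ⟨a, ha⟩, ⟨s, hs⟩, nin, hd, hw⟩⟩

theorem evM_mulSect {n k l : ℤ} (h : n + k = l) {V : (Proj 𝒜).Opens}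
    (m : Γ(_root_.GrTilde.tilde 𝒜 ℳ n, V)) (t : Γ(Twist.twist 𝒜 k, V)) (y : V) :
    evM y (mulSect h m t) = evT y t • evM y m := rfl

set_option maxHeartbeats 1000000 in
variable (𝒜 ℳ) in
/-- The product, on the presheaf tensor product. -/
def mulPre {n k l : ℤ} (h : n + k = l) :
    CohB1.tensorPre (_root_.GrTilde.tilde 𝒜 ℳ n) (Twist.twist 𝒜 k) ⟶ CohB1.toPMod (_root_.GrTilde.tilde 𝒜 ℳ l) where
  app V := ModuleCat.MonoidalCategory.tensorLift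
    (fun (m : Γ(_root_.GrTilde.tilde 𝒜 ℳ n, V.unop)) (t : Γ(Twist.twist 𝒜 k, V.unop)) => mulSect h m t)
    (fun m m' t => evM_ext fun y => smul_add _ _ _)
    (fun (r : Γ(Proj 𝒜, V.unop)) (m : Γ(_root_.GrTilde.tilde 𝒜 ℳ n, V.unop)) (t : Γ(Twist.twist 𝒜 k, V.unop)) =>
      evM_ext fun y => by
        rw [evM_smul, evM_mulSect, evM_mulSect, evM_smul, smul_comm])
    (fun m t t' => evM_ext fun y => add_smul _ _ _)
    (fun (r : Γ(Proj 𝒜, V.unop)) (m : Γ(_root_.GrTilde.tilde 𝒜 ℳ n, V.unop)) (t : Γ(Twist.twist 𝒜 k, V.unop)) =>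
      evM_ext fun y => by
        rw [evM_smul, evM_mulSect, evM_mulSect, Ample.ProjTwist.evT_smul, mul_smul])
  naturality {V W} f := ModuleCat.MonoidalCategory.tensor_ext
    (fun (m : Γ(_root_.GrTilde.tilde 𝒜 ℳ n, V.unop)) (t : Γ(Twist.twist 𝒜 k, V.unop)) => by
      show mulSect h (mres (_root_.GrTilde.tilde 𝒜 ℳ n) (leOfHom f.unop) m)
          (mres (Twist.twist 𝒜 k) (leOfHom f.unop) t) =
        mres (_root_.GrTilde.tilde 𝒜 ℳ l) (leOfHom f.unop) (mulSect h m t)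
      exact evM_ext fun y => rfl)

theorem evM_cast {n n' : ℤ} (h : n = n') {V : (Proj 𝒜).Opens} (m : Γ(_root_.GrTilde.tilde 𝒜 ℳ n, V)) (y : V) :
    evM y (h ▸ m : Γ(_root_.GrTilde.tilde 𝒜 ℳ n', V)) = evM y m := by
  subst h; rfl

/-- `P / Q` as a section of `O(k)`. -/
def fracT {V : (Proj 𝒜).Opens} {p q : ℕ} (P Q : A) (hP : P ∈ 𝒜 p) (hQ : Q ∈ 𝒜 q)
    (ninQ : ∀ y : V, Q ∉ y.1.asHomogeneousIdeal) {k : ℤ} (hd : (p : ℤ) = q + k) : Γ(Twist.twist 𝒜 k, V) :=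
  fracM (ℳ := 𝒜) P Q hP hQ ninQ (Or.inl hd)

theorem evT_fracT {V : (Proj 𝒜).Opens} {p q : ℕ} (P Q : A) (hP : P ∈ 𝒜 p) (hQ : Q ∈ 𝒜 q)
    (ninQ : ∀ y : V, Q ∉ y.1.asHomogeneousIdeal) {k : ℤ} (hd : (p : ℤ) = q + k) (y : V) :
    evT y (fracT P Q hP hQ ninQ hd) = Localization.mk P ⟨Q, ninQ y⟩ := rfl

/-- Multiplying by an invertible fraction is bijective. -/
theorem bijective_mulSect {n k l : ℤ} (h : n + k = l) {V : (Proj 𝒜).Opens} {p q : ℕ} {P Q : A}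
    (hP : P ∈ 𝒜 p) (hQ : Q ∈ 𝒜 q) (ninP : ∀ y : V, P ∉ y.1.asHomogeneousIdeal)
    (ninQ : ∀ y : V, Q ∉ y.1.asHomogeneousIdeal) (hd : (p : ℤ) = q + k) :
    Function.Bijective fun m : Γ(_root_.GrTilde.tilde 𝒜 ℳ n, V) => mulSect h m (fracT P Q hP hQ ninQ hd) := by
  have e : ∀ y : V, evT y (fracT Q P hQ hP ninP (k := -k) (by omega)) * evT y (fracT P Q hP hQ ninQ hd) = 1 :=
    fun y => by
      rw [evT_fracT, evT_fracT, Localization.mk_mul]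
      simp only [mul_comm Q P]
      exact Localization.mk_self (⟨P, ninP y⟩ * ⟨Q, ninQ y⟩ : y.1.asHomogeneousIdeal.toIdeal.primeCompl)
  refine Function.bijective_iff_has_inverse.mpr
    ⟨fun m => mulSect (n := l) (k := -k) (l := n) (by omega) m (fracT Q P hQ hP ninP (by omega)), fun m => ?_, fun m => ?_⟩
  · refine evM_ext fun y => ?_
    rw [evM_mulSect, evM_mulSect, smul_smul, e, one_smul]
  · refine evM_ext fun y => ?_
    rw [evM_mulSect, evM_mulSect, smul_smul, mul_comm, e, one_smul]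

theorem bijective_smul_one (V : (Proj 𝒜).Opens) :
    Function.Bijective fun r : Γ(Proj 𝒜, V) => r •
      fracT (V := V) (k := 0) (1 : A) 1 SetLike.GradedOne.one_mem SetLike.GradedOne.one_mem
        (fun y h => y.1.isPrime.ne_top ((Ideal.eq_top_iff_one _).mpr h)) (by simp) := by
  have hv : ∀ (r : Γ(Proj 𝒜, V)) (y : V), evT y (r • fracT (V := V) (k := 0) (1 : A) 1 SetLike.GradedOne.one_mem
      SetLike.GradedOne.one_mem (fun y h => y.1.isPrime.ne_top ((Ideal.eq_top_iff_one _).mpr h)) (by simp)) = ev y r :=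
    fun r y => by
      rw [Ample.ProjTwist.evT_smul, evT_fracT]
      exact (congrArg (ev y r * ·) (Localization.mk_self (1 : y.1.asHomogeneousIdeal.toIdeal.primeCompl))).trans (mul_one _)
  constructor
  · intro r r' h
    refine Ample.ProjTwist.ev_ext fun y => ?_
    have := congrArg (evT y) h
    rwa [hv, hv] at this
  · intro m
    have hloc : ∀ y : V, ∃ (W : (Proj 𝒜).Opens) (_ : y.1 ∈ W) (hW : W ≤ V) (i : ℕ) (a s : A)
        (ha : a ∈ 𝒜 i) (hs : s ∈ 𝒜 i) (nin : ∀ z : W, s ∉ z.1.asHomogeneousIdeal),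
        ∀ z : W, evT ⟨z.1, hW z.2⟩ m = (HomogeneousLocalization.mk
          (⟨i, ⟨a, ha⟩, ⟨s, hs⟩, nin z⟩ : HomogeneousLocalization.NumDenSameDeg 𝒜 z.1.asHomogeneousIdeal.toIdeal.primeCompl)).val := by
      intro y
      obtain ⟨W, hy, iW, p, q, ⟨a, ha⟩, ⟨s, hs⟩, nin, hd, hw⟩ := (show Twist.sectN 0 (op V) from m).2 y
      replace hd : (p : ℤ) = q + 0 ∨ a = 0 := hd
      rcases hd with hd | hd
      · obtain rfl : p = q := by omega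
        refine ⟨W, hy, leOfHom iW, p, a, s, ha, hs, nin, fun z => (hw z).trans ?_⟩
        exact (HomogeneousLocalization.val_mk (⟨p, ⟨a, ha⟩, ⟨s, hs⟩, nin z⟩ : HomogeneousLocalization.NumDenSameDeg 𝒜 z.1.asHomogeneousIdeal.toIdeal.primeCompl)).symm
      · refine ⟨W, hy, leOfHom iW, q, 0, s, zero_mem _, hs, nin, fun z => (hw z).trans ?_⟩
        subst hd
        exact (HomogeneousLocalization.val_mk (⟨q, ⟨0, zero_mem (𝒜 q)⟩, ⟨s, hs⟩, nin z⟩ : HomogeneousLocalization.NumDenSameDeg 𝒜 z.1.asHomogeneousIdeal.toIdeal.primeCompl)).symm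
    choose W hyW hWV i a s ha hs nin hval using hloc
    refine ⟨⟨fun y => HomogeneousLocalization.mk ⟨i y, ⟨a y, ha y⟩, ⟨s y, hs y⟩, nin y ⟨y.1, hyW y⟩⟩,
      fun y => ⟨W y, hyW y, homOfLE (hWV y), i y, ⟨a y, ha y⟩, ⟨s y, hs y⟩, nin y, fun z => ?_⟩⟩, ?_⟩
    · refine HomogeneousLocalization.val_injective _ ?_
      exact (hval _ ⟨z.1, hyW ⟨z.1, hWV y z.2⟩⟩).symm.trans (hval y z)
    · refine Ample.ProjTwist.evT_ext fun y => ?_
      exact (hv _ y).trans (hval y ⟨y.1, hyW y⟩).symm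

/-- An invertible fraction generates `O(k)`. -/
theorem isGen_fracT {V : (Proj 𝒜).Opens} {p q : ℕ} {P Q : A} (hP : P ∈ 𝒜 p) (hQ : Q ∈ 𝒜 q)
    (ninP : ∀ y : V, P ∉ y.1.asHomogeneousIdeal) (ninQ : ∀ y : V, Q ∉ y.1.asHomogeneousIdeal)
    {k : ℤ} (hd : (p : ℤ) = q + k) : IsGen (Twist.twist 𝒜 k) V (fracT P Q hP hQ ninQ hd) := by
  intro W hW
  have hb := (bijective_mulSect (ℳ := 𝒜) (zero_add k) (V := W) hP hQ (fun y => ninP ⟨y.1, hW y.2⟩)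
    (fun y => ninQ ⟨y.1, hW y.2⟩) hd).comp (bijective_smul_one W)
  refine (Eq.subst (motive := fun f : Γ(Proj 𝒜, W) → Γ(Twist.twist 𝒜 k, W) => Function.Bijective f) ?_ hb)
  refine funext fun r => ?_
  refine Eq.symm ?_
  refine Ample.ProjTwist.evT_ext fun y => ?_
  show evT y (r • mres (Twist.twist 𝒜 k) hW (fracT P Q hP hQ ninQ hd)) =
    evT y (fracT P Q hP hQ (fun z => ninQ ⟨z.1, hW z.2⟩) hd) * evT y (r • fracT (V := W) (k := 0) (1 : A) 1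
      SetLike.GradedOne.one_mem SetLike.GradedOne.one_mem _ _)
  rw [Ample.ProjTwist.evT_smul, Ample.ProjTwist.evT_smul, Ample.ProjTwist.evT_mres, evT_fracT, evT_fracT, evT_fracT]
  refine (mul_comm _ _).trans (congrArg (_ * ·) ?_)
  exact ((congrArg (ev y r * ·) (Localization.mk_self (1 : y.1.asHomogeneousIdeal.toIdeal.primeCompl))).trans (mul_one _)).symm

/-- Near a point outside the zero locus of a degree `d` element, `O(k)` has an invertible fraction if `d ∣ k`. -/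
theorem exists_fracT {d : ℕ} {f : A} (hf : f ∈ 𝒜 d) (j : ℤ) :
    ∃ (p q : ℕ) (P Q : A), P ∈ 𝒜 p ∧ Q ∈ 𝒜 q ∧ (p : ℤ) = q + j * d ∧
      (∀ y : Proj.basicOpen 𝒜 f, P ∉ y.1.asHomogeneousIdeal) ∧
      ∀ y : Proj.basicOpen 𝒜 f, Q ∉ y.1.asHomogeneousIdeal := by
  refine ⟨j.toNat • d, (-j).toNat • d, f ^ j.toNat, f ^ (-j).toNat, SetLike.pow_mem_graded _ hf,
    SetLike.pow_mem_graded _ hf, ?_, fun y hm => y.2 (y.1.isPrime.mem_of_pow_mem _ hm),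
    fun y hm => y.2 (y.1.isPrime.mem_of_pow_mem _ hm)⟩
  simp only [smul_eq_mul]
  push_cast
  linear_combination (d : ℤ) * Int.toNat_sub_toNat_neg j

theorem exists_gen_twist {d : ℕ} {f : A} (hf : f ∈ 𝒜 d) (j : ℤ) :
    ∃ e : Γ(Twist.twist 𝒜 (j * d), Proj.basicOpen 𝒜 f), IsGen (Twist.twist 𝒜 (j * d)) (Proj.basicOpen 𝒜 f) e := by
  obtain ⟨p, q, P, Q, hP, hQ, hd, ninP, ninQ⟩ := exists_fracT hf j
  exact ⟨_, isGen_fracT hP hQ ninP ninQ hd⟩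

theorem exists_degree_one (hgen : (HomogeneousIdeal.irrelevant 𝒜).toIdeal = Ideal.span (𝒜 1 : Set A))
    (p : Proj 𝒜) : ∃ f : A, f ∈ 𝒜 1 ∧ f ∉ p.asHomogeneousIdeal := by
  by_contra hc
  simp only [not_exists, not_and, not_not] at hc
  refine p.not_irrelevant_le fun a ha => ?_
  have h1 : a ∈ Ideal.span (𝒜 1 : Set A) := hgen ▸ ha
  exact Ideal.span_le.mpr hc h1

theorem isInvertible_twist (h1 : ∀ p : Proj 𝒜, ∃ f : A, f ∈ 𝒜 1 ∧ f ∉ p.asHomogeneousIdeal) (k : ℤ) :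
    PicF.IsInvertible (Twist.twist 𝒜 k) :=
  InvExt.isInvertible_of_gens fun p => by
    obtain ⟨f, hf, hp⟩ := h1 p
    have h := exists_gen_twist hf k
    rw [Nat.cast_one, mul_one] at h
    obtain ⟨e, he⟩ := h
    exact ⟨_, e, hp, he⟩

/-- Tensoring with a twist shifts, when fractions of that degree exist. -/
theorem nonempty_tensor_iso_of_fracs {n k l : ℤ} (h : n + k = l)
    (hx : ∀ x : Proj 𝒜, ∃ (p q : ℕ) (P Q : A), P ∈ 𝒜 p ∧ Q ∈ 𝒜 q ∧ (p : ℤ) = q + k ∧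
      P ∉ x.asHomogeneousIdeal ∧ Q ∉ x.asHomogeneousIdeal) :
    Nonempty (CohB1.tensorMod (_root_.GrTilde.tilde 𝒜 ℳ n) (Twist.twist 𝒜 k) ≅ _root_.GrTilde.tilde 𝒜 ℳ l) := by
  refine Ample.nonempty_tensorMod_iso_of_bijective (mulPre 𝒜 ℳ h) fun x => ?_
  obtain ⟨p, q, P, Q, hP, hQ, hd, hPx, hQx⟩ := hx x
  refine ⟨Proj.basicOpen 𝒜 (P * Q), mem_basicOpen_mul.mpr ⟨hPx, hQx⟩, fun W hW => ?_⟩
  have ninP : ∀ y : W, P ∉ y.1.asHomogeneousIdeal := fun y => (mem_basicOpen_mul.mp (hW y.2)).1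
  have ninQ : ∀ y : W, Q ∉ y.1.asHomogeneousIdeal := fun y => (mem_basicOpen_mul.mp (hW y.2)).2
  let e : Γ(Twist.twist 𝒜 k, W) := fracT P Q hP hQ ninQ hd
  have he : IsGen (Twist.twist 𝒜 k) W e := isGen_fracT hP hQ ninP ninQ hd
  have hbij := bijective_mulSect (ℳ := ℳ) h hP hQ ninP ninQ hd
  have hspan : ∀ z : TensorProduct Γ(Proj 𝒜, W) Γ(_root_.GrTilde.tilde 𝒜 ℳ n, W) Γ(Twist.twist 𝒜 k, W),
      ∃ μ, z = μ ⊗ₜ[Γ(Proj 𝒜, W)] e := by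
    intro z
    induction z with
    | zero => exact ⟨0, (TensorProduct.zero_tmul _ _).symm⟩
    | tmul μ t =>
      obtain ⟨r, hr⟩ := (he W le_rfl).2 t
      simp only [InvExt.mres_self] at hr
      refine ⟨r • μ, ?_⟩
      rw [TensorProduct.smul_tmul, hr]
    | add z w hz hw =>
      obtain ⟨r, hr⟩ := hz
      obtain ⟨s, hs⟩ := hw
      exact ⟨r + s, by rw [hr, hs, TensorProduct.add_tmul]⟩
  have hmap : ∀ μ, (show Γ(_root_.GrTilde.tilde 𝒜 ℳ l, W) from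
      ((mulPre 𝒜 ℳ h).app (op W)).hom (μ ⊗ₜ[Γ(Proj 𝒜, W)] e)) = mulSect h μ e := fun μ => rfl
  constructor
  · intro (z : TensorProduct Γ(Proj 𝒜, W) Γ(_root_.GrTilde.tilde 𝒜 ℳ n, W) Γ(Twist.twist 𝒜 k, W))
      (w : TensorProduct Γ(Proj 𝒜, W) Γ(_root_.GrTilde.tilde 𝒜 ℳ n, W) Γ(Twist.twist 𝒜 k, W)) hzw
    obtain ⟨μ, rfl⟩ := hspan z
    obtain ⟨ν, rfl⟩ := hspan w
    rw [hbij.1 ((hmap μ).symm.trans (hzw.trans (hmap ν)))]
  · intro (t : Γ(_root_.GrTilde.tilde 𝒜 ℳ l, W))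
    obtain ⟨μ, hμ⟩ := hbij.2 t
    exact ⟨μ ⊗ₜ[Γ(Proj 𝒜, W)] e, (hmap μ).trans hμ⟩

theorem nonempty_tensor_iso (h1 : ∀ p : Proj 𝒜, ∃ f : A, f ∈ 𝒜 1 ∧ f ∉ p.asHomogeneousIdeal)
    {n k l : ℤ} (h : n + k = l) :
    Nonempty (CohB1.tensorMod (_root_.GrTilde.tilde 𝒜 ℳ n) (Twist.twist 𝒜 k) ≅ _root_.GrTilde.tilde 𝒜 ℳ l) :=
  nonempty_tensor_iso_of_fracs h fun x => by
    obtain ⟨f, hf, hx⟩ := h1 x
    obtain ⟨p, q, P, Q, hP, hQ, hd, ninP, ninQ⟩ := exists_fracT hf k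
    rw [Nat.cast_one, mul_one] at hd
    exact ⟨p, q, P, Q, hP, hQ, hd, ninP ⟨x, hx⟩, ninQ ⟨x, hx⟩⟩

theorem nonempty_twist_tensor_twist (h1 : ∀ p : Proj 𝒜, ∃ f : A, f ∈ 𝒜 1 ∧ f ∉ p.asHomogeneousIdeal)
    (m n : ℤ) : Nonempty (CohB1.tensorMod (Twist.twist 𝒜 m) (Twist.twist 𝒜 n) ≅ Twist.twist 𝒜 (m + n)) :=
  nonempty_tensor_iso (ℳ := 𝒜) h1 rfl

variable (𝒜) in
theorem nonempty_structureModule_iso_twist_zero :
    Nonempty (Coh.structureModule (Proj 𝒜) ≅ Twist.twist 𝒜 0) := by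
  let c := Ample.Cocycle.triv (Proj 𝒜)
  obtain ⟨φ⟩ := c.nonempty_structureModule_iso_of_g_eq_one (n := 1) fun _ _ => rfl
  let e : ∀ i, Γ(Twist.twist 𝒜 0, c.D i) := fun i => fracT (1 : A) 1 SetLike.GradedOne.one_mem
    SetLike.GradedOne.one_mem (fun y h => y.1.isPrime.ne_top ((Ideal.eq_top_iff_one _).mpr h)) (by simp)
  have hfam : c.IsFamily 1 e := fun i j W hi hj => by
    rw [pow_one, show c.G i j hi hj = 1 from map_one _, one_smul]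
    rfl
  haveI := c.isIso_homOfFamily hfam fun i => isGen_fracT _ _
    (fun y h => y.1.isPrime.ne_top ((Ideal.eq_top_iff_one _).mpr h)) _ _
  exact ⟨φ ≪≫ asIso (c.homOfFamily hfam)⟩

theorem nonempty_twist_iso_tensorPow (h1 : ∀ p : Proj 𝒜, ∃ f : A, f ∈ 𝒜 1 ∧ f ∉ p.asHomogeneousIdeal)
    (n : ℕ) : Nonempty (Twist.twist 𝒜 (n : ℤ) ≅ CohB1.tensorPow (Twist.twist 𝒜 1) n) := by
  induction n with
  | zero => exact (nonempty_structureModule_iso_twist_zero 𝒜).map Iso.symm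
  | succ n ih =>
    obtain ⟨d⟩ := ih
    obtain ⟨t⟩ := nonempty_twist_tensor_twist h1 (n : ℤ) 1
    exact ⟨eqToIso (by push_cast; rfl) ≪≫ t.symm ≪≫ Ample.LineData.tensorModMapIso d (Iso.refl _)⟩

theorem isInvertible_restrict_twist (d : ℕ) (j : ℤ) :
    PicF.IsInvertible ((Twist.twist 𝒜 (j * d)).restrict (⨆ f : 𝒜 d, Proj.basicOpen 𝒜 (f : A)).ι) := by
  let U : (Proj 𝒜).Opens := ⨆ f : 𝒜 d, Proj.basicOpen 𝒜 (f : A)
  refine InvExt.isInvertible_of_gens fun x => ?_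
  obtain ⟨f, hf⟩ := Opens.mem_iSup.mp (x.2 : x.1 ∈ U)
  obtain ⟨e, he⟩ := exists_gen_twist f.2 j
  have hle : U.ι ''ᵁ (U.ι ⁻¹ᵁ Proj.basicOpen 𝒜 (f : A)) ≤ Proj.basicOpen 𝒜 (f : A) := by
    rw [U.ι.image_preimage_eq_opensRange_inf]
    exact inf_le_right
  exact ⟨U.ι ⁻¹ᵁ Proj.basicOpen 𝒜 (f : A), _, hf, InvExt.isGen_restrict _ _ (he.restrict hle)⟩

end GrothLib.GrTilde

namespace GrothLib.GrTilde

open MonoidalCategory in
/-- Commutativity of the tensor product. -/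
def tensorModComm {X : Scheme.{u}} (M N : X.Modules) : CohB1.tensorMod M N ≅ CohB1.tensorMod N M :=
  let e : (show X.PresheafOfModules from CohB1.tensorPre M N) ≅ (show X.PresheafOfModules from CohB1.tensorPre N M) :=
    β_ (CohB1.toPMod M) (CohB1.toPMod N)
  (CohB1.sheafifyMod X).mapIso e

end GrothLib.GrTilde
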