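import Groth.Agent.Lib.GrTilde.Amp
import Groth.Agent.Lib.Ample.ModTwistQcoh
import Groth.Agent.Lib.Ample.FiniteGen

/-!
# Finite type modules on Proj: quotients of sums of negative twists
-/

universe u

set_option backward.isDefEq.respectTransparency false

open AlgebraicGeometry CategoryTheory CategoryTheory.Limits TopologicalSpace Opposite
open GrothLib.InvExt (mres IsGen)

noncomputable section

namespace GrothLib.Ample.Cocycle

variable {X : Scheme.{u}} (c : Cocycle X)

/-- The inverse cocycle. -/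
def inv : Cocycle X where
  ι := c.ι
  D := c.D
  g i j := c.G j i inf_le_right inf_le_left
  cover := c.cover
  self i W h := by rw [res_G]; exact c.G_self i _ _
  change i j k W hi hj hk := by rw [res_G, res_G, res_G, mul_comm]; exact c.G_trans k j i hk hj hi

theorem inv_G (i j : c.ι) {W : X.Opens} (hi : W ≤ c.D i) (hj : W ≤ c.D j) :
    c.inv.G i j hi hj = c.G j i hj hi :=
  c.res_G j i inf_le_right inf_le_left _

variable {M : X.Modules} {n : ℕ}

theorem isFamily_of_msect (s : c.msect M n ⊤) :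
    c.inv.IsFamily n (M := M) fun i => mres M (le_inf le_top le_rfl) (s.1 i) := fun i j W hi hj => by
  rw [InvExt.mres_mres, InvExt.mres_mres, inv_G]
  exact c.msect_spec s j i _ _

variable (M) in
/-- A spanning family of twisted sections gives an epimorphism from inverse twists. -/
theorem exists_epi_inv_twist {k : ℕ} (s : Fin k → c.msect M n ⊤)
    (h : Spanned (c.modTwist M n) (s : Fin k → Γ(c.modTwist M n, ⊤))) :
    ∃ p : (∐ fun _ : Fin k => c.inv.twist n) ⟶ M, Epi p := by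
  let p : (∐ fun _ : Fin k => c.inv.twist n) ⟶ M :=
    Sigma.desc fun j => c.inv.homOfFamily (c.isFamily_of_msect (s j))
  refine ⟨p, ⟨fun {N : X.Modules} (g : M ⟶ N) (g' : M ⟶ N) hgg => ?_⟩⟩
  refine Scheme.Modules.hom_ext g g' fun O => ?_
  ext (μ : Γ(M, O))
  have hs : ∀ j (i : c.ι), g.app (c.D i) (mres M (le_inf le_top le_rfl) ((s j).1 i)) =
      g'.app (c.D i) (mres M (le_inf le_top le_rfl) ((s j).1 i)) := by
    intro j i
    have h1 : c.inv.homOfFamily (c.isFamily_of_msect (s j)) ≫ g =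
        c.inv.homOfFamily (c.isFamily_of_msect (s j)) ≫ g' := by
      have h0 := congrArg (fun q => Sigma.ι (fun _ : Fin k => c.inv.twist n) j ≫ q) hgg
      simp only [p, Sigma.ι_desc_assoc] at h0
      exact h0
    have h2 := congrArg (fun q : c.inv.twist n ⟶ N => q.app (c.D i) (c.inv.base n i le_rfl)) h1
    change g.app (c.D i) ((c.inv.homOfFamily (c.isFamily_of_msect (s j))).app (c.D i) (c.inv.base n i le_rfl)) =
      g'.app (c.D i) ((c.inv.homOfFamily (c.isFamily_of_msect (s j))).app (c.D i) (c.inv.base n i le_rfl)) at h2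
    rw [c.inv.homOfFamily_base] at h2
    erw [InvExt.mres_self] at h2
    exact h2
  have hloc : ∀ x : O, ∃ (W : X.Opens) (hW : W ≤ O), x.1 ∈ W ∧
      g.app W (mres M hW μ) = g'.app W (mres M hW μ) := by
    intro x
    obtain ⟨i, hi⟩ := c.exists_mem x.1
    let O' : X.Opens := O ⊓ c.D i
    obtain ⟨W, hW, hxW, hspan⟩ := h O' (c.mbase n i (inf_le_right : O' ≤ c.D i) (mres M inf_le_left μ))
      x.1 ⟨x.2, hi⟩
    have hWD : W ≤ c.D i := hW.trans inf_le_right
    refine ⟨W, hW.trans inf_le_left, hxW, ?_⟩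
    have key : ∀ a ∈ Submodule.span Γ(X, W) (Set.range fun j => c.msectRes (le_top : W ≤ ⊤) (s j)),
        g.app W ((c.mbaseEquiv M n i hWD).symm a) = g'.app W ((c.mbaseEquiv M n i hWD).symm a) := by
      intro a ha
      induction ha using Submodule.span_induction with
      | mem z hz =>
        obtain ⟨j, rfl⟩ := hz
        have e : (c.mbaseEquiv M n i hWD).symm (c.msectRes (le_top : W ≤ ⊤) (s j)) =
            mres M hWD (mres M (le_inf le_top le_rfl) ((s j).1 i)) :=
          (InvExt.mres_mres M _ _ _).trans (InvExt.mres_mres M _ _ _).symm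
        rw [e]
        exact (app_mres g hWD _).trans ((congrArg (mres N hWD) (hs j i)).trans (app_mres g' hWD _).symm)
      | zero => rw [map_zero, map_zero, map_zero]
      | add z w _ _ hz hw => rw [map_add, map_add, map_add, hz, hw]
      | smul r z _ hz => rw [map_smul, app_smul, app_smul, hz]
    have h3 := key _ hspan
    have e : (c.mbaseEquiv M n i hWD).symm (c.msectRes hW (c.mbase n i (inf_le_right : O' ≤ c.D i) (mres M inf_le_left μ)))
        = mres M (hW.trans inf_le_left) μ := by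
      rw [LinearEquiv.symm_apply_eq, msectRes_mbase, InvExt.mres_mres]
      rfl
    erw [e] at h3
    exact h3
  choose W hW hxW hWeq using hloc
  refine meq_of_cover N W hW (fun x hx => Opens.mem_iSup.mpr ⟨⟨x, hx⟩, hxW ⟨x, hx⟩⟩) fun x => ?_
  rw [← app_mres, ← app_mres]
  exact hWeq x

end GrothLib.Ample.Cocycle

namespace GrothLib.GrTilde

open GrothLib.Ample

variable {R A : Type u} [CommRing R] [CommRing A] [Algebra R A] (𝒜 : ℕ → Submodule R A) [GradedAlgebra 𝒜]
variable {ι : Type u} (x : ι → A) (hx : ∀ i, x i ∈ 𝒜 1) (hcov : ⨆ i, Proj.basicOpen 𝒜 (x i) = ⊤)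

theorem nonempty_inv_twist_iso (n : ℕ) :
    Nonempty ((ProjTwist.cocycle 𝒜 x hx hcov).inv.twist n ≅ Twist.twist 𝒜 (-(n : ℤ))) := by
  let c := ProjTwist.cocycle 𝒜 x hx hcov
  let m : ∀ i, Γ(Twist.twist 𝒜 (-(n : ℤ)), c.D i) := fun i =>
    fracT (1 : A) (x i ^ n) SetLike.GradedOne.one_mem (ProjTwist.pow_mem 𝒜 (hx i) n)
      (fun y => ProjTwist.pow_notMem 𝒜 n y.2) (by simp)
  have hfam : c.inv.IsFamily n m := fun i j W hi hj => by
    refine ProjTwist.evT_ext fun y => ?_
    rw [Cocycle.inv_G, ProjTwist.evT_smul, ProjTwist.ev_pow, ProjTwist.ev_G]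
    erw [ProjTwist.evT_mres, ProjTwist.evT_mres, evT_fracT, evT_fracT]
    rw [Localization.mk_pow, Localization.mk_mul, Localization.mk_eq_mk_iff, Localization.r_iff_exists]
    exact ⟨1, by simp only [OneMemClass.coe_one, one_mul, Submonoid.coe_mul, SubmonoidClass.coe_pow]; ring⟩
  haveI := c.inv.isIso_homOfFamily hfam fun i => isGen_fracT _ _ (fun y => one_notMem y.1)
    (fun y => ProjTwist.pow_notMem 𝒜 n y.2) _
  exact ⟨asIso (c.inv.homOfFamily hfam)⟩

end GrothLib.GrTilde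

namespace GrothLib.GrTilde

open GrothLib.Ample

variable {R A : Type u} [CommRing R] [CommRing A] [Algebra R A] (𝒜 : ℕ → Submodule R A) [GradedAlgebra 𝒜]

/-- High twists of a finite type module: finitely spanned, and the module is a quotient of negative twists. -/
theorem eventually_quotient (s : Finset A) (hs1 : ∀ f ∈ s, f ∈ 𝒜 1)
    (hs : (HomogeneousIdeal.irrelevant 𝒜).toIdeal = Ideal.span (s : Set A))
    (F : (Proj 𝒜).Modules) [F.IsQuasicoherent] (hFT : CohB1.IsFT F) :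
    ∃ n₀ : ℕ, ∀ n : ℕ, n₀ ≤ n →
      (∃ (k : ℕ) (p : FlatMod.freeMod (Proj 𝒜) k ⟶ Twist.twistBy 𝒜 F (n : ℤ)), Epi p) ∧
      ∃ (k : ℕ) (p : (∐ fun _ : Fin k => Twist.twist 𝒜 (-(n : ℤ))) ⟶ F), Epi p := by
  let x : s → A := fun i => i.1
  have hx : ∀ i, x i ∈ 𝒜 1 := fun i => hs1 _ i.2
  have hcov : ⨆ i, Proj.basicOpen 𝒜 (x i) = ⊤ := top_le_iff.mp fun y _ => by
    obtain ⟨f, hf, hfy⟩ := exists_notMem_of_span hs.le y
    exact Opens.mem_iSup.mpr ⟨⟨f, hf⟩, hfy⟩
  haveI : CompactSpace (Proj 𝒜) := compactSpace_of_finite x (fun _ => 1) (fun _ => one_pos) hx fun y => by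
    obtain ⟨f, hf, hfy⟩ := exists_notMem_of_span hs.le y
    exact ⟨⟨f, hf⟩, hfy⟩
  let c : Cocycle (Proj 𝒜) := ProjTwist.cocycle 𝒜 x hx hcov
  have hamp : CohB1.IsAmple (Twist.twist 𝒜 ((1 : ℕ) : ℤ)) := isAmple_twist_of_cover one_pos fun y => by
    obtain ⟨f, hf, hfy⟩ := exists_notMem_of_span hs.le y
    exact ⟨f, hs1 f hf, hfy⟩
  have hc : c.IsAmp := ((c.isAmple_iff (asIso (ProjTwist.toTwist 𝒜 x hx hcov 1)).symm).mp hamp).2
  have hM : ∀ p : Proj 𝒜, ∃ O : (Proj 𝒜).Opens, p ∈ O ∧ ∀ W : (Proj 𝒜).Opens, IsAffineOpen W → W ≤ O →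
      Module.Finite Γ(Proj 𝒜, W) Γ(F, W) :=
    fun p => ⟨⊤, trivial, fun W hW _ => QCoh.moduleFinite_of_isFiniteType F hFT hW⟩
  obtain ⟨n₀, h⟩ := c.eventually_spanned F hc hM
  refine ⟨n₀, fun n hn => ?_⟩
  haveI := c.isQuasicoherent_modTwist F n
  obtain ⟨k, t, ht⟩ := exists_finite_spanned (c.modTwist F n) (c.finite_modTwist F n hM)
    (fun σ : c.msect F n ⊤ => (σ : Γ(c.modTwist F n, ⊤))) (h n hn)
  constructor
  · obtain ⟨p, hp⟩ := exists_epi_free (F := c.modTwist F n) _ ht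
    obtain ⟨e⟩ := c.nonempty_tensor_modTwist F n
    let e' : c.modTwist F n ≅ Twist.twistBy 𝒜 F (n : ℤ) :=
      e.symm ≪≫ LineData.tensorModMapIso (Iso.refl F) (asIso (ProjTwist.toTwist 𝒜 x hx hcov n))
    exact ⟨k, p ≫ e'.hom, inferInstance⟩
  · obtain ⟨p, hp⟩ := c.exists_epi_inv_twist F _ ht
    obtain ⟨e⟩ := nonempty_inv_twist_iso 𝒜 x hx hcov n
    exact ⟨k, (Sigma.mapIso fun _ : Fin k => e).inv ≫ p, inferInstance⟩

end GrothLib.GrTilde
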