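import Groth.Agent.Lib.GrTilde.Mul
import Groth.Agent.Lib.Ample.Criterion
import Groth.Agent.Lib.Ample.ProjSections
import Groth.Prelude.Def_ProjUP
import Groth.Prelude.Def_FlatMod2

/-!
# `O(N)` when some degree `N` element is nonzero at each point: ample, generated
-/

universe u

set_option backward.isDefEq.respectTransparency false

open AlgebraicGeometry CategoryTheory TopologicalSpace Opposite
open GrothLib.InvExt (mres IsGen)
open GrothLib.Ample (res Cocycle)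
open GrothLib.Ample.ProjTwist (ev evT gsec)

noncomputable section

namespace GrothLib.GrTilde

variable {R A : Type u} [CommRing R] [CommRing A] [Algebra R A] {𝒜 : ℕ → Submodule R A} [GradedAlgebra 𝒜]

theorem one_notMem (y : Proj 𝒜) : (1 : A) ∉ y.asHomogeneousIdeal := fun h =>
  y.isPrime.ne_top ((Ideal.eq_top_iff_one _).mpr h)

theorem isGen_gsec {N : ℕ} {b : A} (hb : b ∈ 𝒜 N) :
    IsGen (Twist.twist 𝒜 (N : ℤ)) (Proj.basicOpen 𝒜 b)
      (mres (Twist.twist 𝒜 (N : ℤ)) le_top (gsec 𝒜 b hb)) :=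
  isGen_fracT (V := Proj.basicOpen 𝒜 b) hb SetLike.GradedOne.one_mem (fun y => y.2) (fun y => one_notMem y.1)
    (k := (N : ℤ)) (by simp)

/-- Where a global section `b` generates, it does not vanish. -/
theorem notMem_of_isGen {N : ℕ} {b : A} (hb : b ∈ 𝒜 N) {V : (Proj 𝒜).Opens}
    (h : IsGen (Twist.twist 𝒜 (N : ℤ)) V (mres (Twist.twist 𝒜 (N : ℤ)) le_top (gsec 𝒜 b hb))) (y : V)
    {b' : A} (hb' : b' ∈ 𝒜 N) (hy : b' ∉ y.1.asHomogeneousIdeal) : b ∉ y.1.asHomogeneousIdeal := by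
  obtain ⟨r, hr⟩ := (h V le_rfl).2 (mres (Twist.twist 𝒜 (N : ℤ)) le_top (gsec 𝒜 b' hb'))
  have h1 : evT y (r • mres (Twist.twist 𝒜 (N : ℤ)) le_rfl (mres (Twist.twist 𝒜 (N : ℤ)) le_top (gsec 𝒜 b hb))) =
      evT y (mres (Twist.twist 𝒜 (N : ℤ)) le_top (gsec 𝒜 b' hb')) := congrArg (evT y) hr
  rw [Ample.ProjTwist.evT_smul, Ample.ProjTwist.evT_mres, Ample.ProjTwist.evT_mres, Ample.ProjTwist.evT_mres,
    Ample.ProjTwist.evT_gsec, Ample.ProjTwist.evT_gsec] at h1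
  have hu : IsUnit (algebraMap A (Twist.Loc 𝒜 y.1) b') :=
    IsLocalization.map_units _ (⟨b', hy⟩ : y.1.asHomogeneousIdeal.toIdeal.primeCompl)
  rw [← h1] at hu
  exact (IsLocalization.AtPrime.isUnit_to_map_iff _ y.1.asHomogeneousIdeal.toIdeal b).mp (isUnit_of_mul_isUnit_right hu)

theorem isInvertible_twist_of_cover {N : ℕ} (hN : ∀ x : Proj 𝒜, ∃ b ∈ 𝒜 N, b ∉ x.asHomogeneousIdeal) :
    PicF.IsInvertible (Twist.twist 𝒜 (N : ℤ)) :=
  InvExt.isInvertible_of_gens fun x => by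
    obtain ⟨b, hb, hx⟩ := hN x
    exact ⟨_, _, hx, isGen_gsec hb⟩

theorem locus_eq_basicOpen {N : ℕ} (hN : ∀ x : Proj 𝒜, ∃ b ∈ 𝒜 N, b ∉ x.asHomogeneousIdeal)
    (c : Cocycle (Proj 𝒜)) (e : Twist.twist 𝒜 (N : ℤ) ≅ c.twist 1) {b : A} (hb : b ∈ 𝒜 N) :
    c.locus (show c.sect 1 ⊤ from e.hom.app ⊤ (gsec 𝒜 b hb)) = Proj.basicOpen 𝒜 b := by
  let a : c.sect 1 ⊤ := e.hom.app ⊤ (gsec 𝒜 b hb)
  refine le_antisymm (fun y hy => ?_) fun z hz => ?_
  · obtain ⟨b', hb', hy'⟩ := hN y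
    have h1 := (Ample.Cocycle.isGen_sectRes_locus c a).map e.inv fun W _ =>
      ConcreteCategory.bijective_of_isIso ((Scheme.Modules.toPresheaf _).map e.inv |>.app (op W))
    have h2 : e.inv.app (c.locus a) (c.sectRes (le_top : c.locus a ≤ ⊤) a) =
        mres (Twist.twist 𝒜 (N : ℤ)) le_top (gsec 𝒜 b hb) := by
      refine ((InvExt.mres_app e.inv (le_top : c.locus a ≤ ⊤) a).symm.trans ?_)
      exact congrArg _ (congrArg (fun f : Twist.twist 𝒜 (N : ℤ) ⟶ Twist.twist 𝒜 (N : ℤ) =>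
        f.app ⊤ (gsec 𝒜 b hb)) e.hom_inv_id)
    rw [h2] at h1
    exact notMem_of_isGen hb h1 ⟨y, hy⟩ hb' hy'
  · obtain ⟨i, hi⟩ := c.exists_mem z
    let W : (Proj 𝒜).Opens := Proj.basicOpen 𝒜 b ⊓ c.D i
    have h1 : IsGen (c.twist 1) W (mres (c.twist 1) (le_top : W ≤ ⊤) a) := by
      have h0 := ((isGen_gsec hb).map e.hom fun V _ =>
        ConcreteCategory.bijective_of_isIso ((Scheme.Modules.toPresheaf _).map e.hom |>.app (op V))).restrict
          (inf_le_left : W ≤ Proj.basicOpen 𝒜 b)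
      rw [← InvExt.mres_app, InvExt.mres_mres] at h0
      exact h0
    obtain ⟨r, hr⟩ := (h1 W le_rfl).2 (c.base 1 i inf_le_right)
    rw [InvExt.mres_self] at hr
    have h3 : c.sectRes (le_top : W ≤ ⊤) a =
        res (le_inf le_rfl inf_le_right : W ≤ W ⊓ c.D i) ((c.sectRes (le_top : W ≤ ⊤) a).1 i) •
          c.base 1 i inf_le_right := c.eq_smul_base i inf_le_right _
    have h4 : r * res (le_inf le_rfl inf_le_right : W ≤ W ⊓ c.D i) ((c.sectRes (le_top : W ≤ ⊤) a).1 i) = 1 := by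
      refine (c.isGen_base 1 i (inf_le_right : W ≤ c.D i) W le_rfl).1 ?_
      simp only [InvExt.mres_self]
      rw [mul_smul, one_smul]
      exact (congrArg (fun t : c.sect 1 W => r • t) h3.symm).trans hr
    rw [c.mem_locus_iff a hi]
    have h5 : IsUnit (res (le_inf le_top inf_le_right : W ≤ ⊤ ⊓ c.D i) (a.1 i)) := by
      rw [mul_comm] at h4
      have := IsUnit.of_mul_eq_one _ h4
      rwa [Ample.Cocycle.sectRes_apply, Ample.res_res] at this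
    rw [Scheme.mem_basicOpen _ _ z (show z ∈ (⊤ : (Proj 𝒜).Opens) ⊓ c.D i from ⟨trivial, hi⟩)]
    have h6 := h5.map ((Proj 𝒜).presheaf.germ W z (show z ∈ W from ⟨hz, hi⟩)).hom
    erw [(Proj 𝒜).presheaf.germ_res_apply] at h6
    exact h6

theorem isAmple_twist_of_cover [CompactSpace (Proj 𝒜)] {N : ℕ} (hN0 : 0 < N)
    (hN : ∀ x : Proj 𝒜, ∃ b ∈ 𝒜 N, b ∉ x.asHomogeneousIdeal) : CohB1.IsAmple (Twist.twist 𝒜 (N : ℤ)) := by
  obtain ⟨c, ⟨e⟩⟩ := Ample.exists_cocycle (isInvertible_twist_of_cover hN)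
  refine (c.isAmple_iff e).mpr ⟨inferInstance, fun x => ?_⟩
  obtain ⟨b, hb, hx⟩ := hN x
  refine ⟨0, e.hom.app ⊤ (gsec 𝒜 b hb), ?_⟩
  rw [locus_eq_basicOpen hN c e hb]
  exact ⟨hx, Proj.isAffineOpen_basicOpen 𝒜 b hb hN0⟩

/-- Sections spanning near each point. -/
theorem exists_span_gsec {N : ℕ} (hN : ∀ x : Proj 𝒜, ∃ b ∈ 𝒜 N, b ∉ x.asHomogeneousIdeal)
    (O : (Proj 𝒜).Opens) (m : Γ(Twist.twist 𝒜 (N : ℤ), O)) (x : Proj 𝒜) (hx : x ∈ O) :
    ∃ (b : A) (hb : b ∈ 𝒜 N) (W : (Proj 𝒜).Opens) (hW : W ≤ O), x ∈ W ∧ ∃ r : Γ(Proj 𝒜, W),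
      r • mres (Twist.twist 𝒜 (N : ℤ)) le_top (gsec 𝒜 b hb) = mres (Twist.twist 𝒜 (N : ℤ)) hW m := by
  obtain ⟨b, hb, hxb⟩ := hN x
  obtain ⟨r, hr⟩ := (isGen_gsec hb (O ⊓ Proj.basicOpen 𝒜 b) inf_le_right).2
    (mres (Twist.twist 𝒜 (N : ℤ)) inf_le_left m)
  rw [InvExt.mres_mres] at hr
  exact ⟨b, hb, O ⊓ Proj.basicOpen 𝒜 b, inf_le_left, ⟨hx, hxb⟩, r, hr⟩

theorem compactSpace_of_finite {ι : Type*} [Finite ι] (f : ι → A) (d : ι → ℕ) (hd : ∀ i, 0 < d i)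
    (hf : ∀ i, f i ∈ 𝒜 (d i)) (h : ∀ x : Proj 𝒜, ∃ i, f i ∉ x.asHomogeneousIdeal) : CompactSpace (Proj 𝒜) := by
  rw [← isCompact_univ_iff, show (Set.univ : Set (Proj 𝒜)) = ⋃ i, (Proj.basicOpen 𝒜 (f i) : Set (Proj 𝒜))
    from (Set.eq_univ_iff_forall.mpr fun x => by
      obtain ⟨i, hi⟩ := h x
      exact Set.mem_iUnion.mpr ⟨i, hi⟩).symm]
  exact isCompact_iUnion fun i => (Proj.isAffineOpen_basicOpen 𝒜 _ (hf i) (hd i)).isCompact

theorem exists_notMem_of_span {S : Set A} (hS : (HomogeneousIdeal.irrelevant 𝒜).toIdeal ≤ Ideal.span S)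
    (x : Proj 𝒜) : ∃ f ∈ S, f ∉ x.asHomogeneousIdeal := by
  by_contra hc
  push_neg at hc
  exact x.not_irrelevant_le fun a ha => Ideal.span_le.mpr hc (hS ha)

theorem irrelevant_le_span_range {s : ℕ} (f : Fin s → A) (deg : Fin s → ℕ) (hdeg : ∀ i, 0 < deg i)
    (hf : ∀ i, f i ∈ 𝒜 (deg i)) (hgen : Algebra.adjoin R (Set.range f) = ⊤) :
    (HomogeneousIdeal.irrelevant 𝒜).toIdeal ≤ Ideal.span (Set.range f) := by
  have hsub : Ideal.span (Set.range f) ≤ (HomogeneousIdeal.irrelevant 𝒜).toIdeal := Ideal.span_le.mpr fun a ha => by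
    obtain ⟨i, rfl⟩ := ha
    show f i ∈ HomogeneousIdeal.irrelevant 𝒜
    rw [HomogeneousIdeal.mem_irrelevant_iff, GradedRing.proj_apply,
      DirectSum.decompose_of_mem_ne 𝒜 (hf i) (hdeg i).ne']
  have key : ∀ a ∈ Algebra.adjoin R (Set.range f), ∃ r : R, a - algebraMap R A r ∈ Ideal.span (Set.range f) := by
    intro a ha
    induction ha using Algebra.adjoin_induction with
    | mem z hz => exact ⟨0, by simpa using Ideal.subset_span hz⟩
    | algebraMap r => exact ⟨r, by simp⟩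
    | add z w _ _ hz hw =>
      obtain ⟨r, hr⟩ := hz
      obtain ⟨t, ht⟩ := hw
      exact ⟨r + t, by rw [map_add]; convert add_mem hr ht using 1; ring⟩
    | mul z w _ _ hz hw =>
      obtain ⟨r, hr⟩ := hz
      obtain ⟨t, ht⟩ := hw
      refine ⟨r * t, ?_⟩
      have : z * w - algebraMap R A (r * t) = (z - algebraMap R A r) * w + algebraMap R A r * (w - algebraMap R A t) := by
        rw [map_mul]; ring
      rw [this]
      exact add_mem (Ideal.mul_mem_right _ _ hr) (Ideal.mul_mem_left _ _ ht)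
  intro a ha
  obtain ⟨r, hr⟩ := key a (hgen ▸ Algebra.mem_top)
  have h0 : algebraMap R A r ∈ HomogeneousIdeal.irrelevant 𝒜 := by
    have := sub_mem ha (hsub hr)
    rwa [sub_sub_cancel] at this
  rw [HomogeneousIdeal.mem_irrelevant_iff, GradedRing.proj_apply,
    DirectSum.decompose_of_mem_same 𝒜 (SetLike.algebraMap_mem_graded 𝒜 r)] at h0
  rwa [h0, sub_zero] at hr

end GrothLib.GrTilde
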