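import Groth.Agent.Lib.GrTilde.Amp
import Groth.Agent.Lib.Ample.LocusGen
import Groth.Agent.Lib.Ample.RelAmple

/-!
# A positive twist is ample on every quasi-compact open of Proj
-/

universe u

set_option backward.isDefEq.respectTransparency false

open AlgebraicGeometry CategoryTheory TopologicalSpace Opposite
open GrothLib.InvExt (mres IsGen)
open GrothLib.Ample (Cocycle)
open GrothLib.Ample.ProjTwist (gsec)

noncomputable section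

namespace GrothLib.GrTilde

variable {R A : Type u} [CommRing R] [CommRing A] [Algebra R A] {𝒜 : ℕ → Submodule R A} [GradedAlgebra 𝒜]

theorem isAmple_twist_restrict {V : (Proj 𝒜).Opens} [CompactSpace (V : Scheme.{u})] {N : ℕ} (hN0 : 0 < N)
    (hN : ∀ x ∈ V, ∃ b ∈ 𝒜 N, x ∈ Proj.basicOpen 𝒜 b ∧ Proj.basicOpen 𝒜 b ≤ V) :
    CohB1.IsAmple ((Twist.twist 𝒜 (N : ℤ)).restrict V.ι) := by
  let T := Twist.twist 𝒜 (N : ℤ)
  let L := T.restrict V.ι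
  have hgen : ∀ (b : A) (hb : b ∈ 𝒜 N) (W : (V : Scheme.{u}).Opens), W ≤ V.ι ⁻¹ᵁ Proj.basicOpen 𝒜 b →
      IsGen L W (show Γ(L, W) from mres T (le_top : V.ι ''ᵁ W ≤ ⊤) (gsec 𝒜 b hb)) := fun b hb W hW => by
    refine InvExt.isGen_restrict V.ι T ?_
    have h := (isGen_gsec (𝒜 := 𝒜) hb).restrict (W := V.ι ''ᵁ W) (by
      rintro _ ⟨y, hy, rfl⟩
      exact hW hy)
    rwa [InvExt.mres_mres] at h
  have hinv : PicF.IsInvertible L := InvExt.isInvertible_of_gens fun x => by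
    obtain ⟨b, hb, hxb, -⟩ := hN x.1 x.2
    exact ⟨V.ι ⁻¹ᵁ Proj.basicOpen 𝒜 b, _, hxb, hgen b hb _ le_rfl⟩
  obtain ⟨c, ⟨e⟩⟩ := Ample.exists_cocycle hinv
  refine (c.isAmple_iff e).mpr ⟨inferInstance, fun x => ?_⟩
  obtain ⟨b, hb, hxb, hbV⟩ := hN x.1 x.2
  let σ : Γ(L, ⊤) := show Γ(L, ⊤) from mres T (le_top : V.ι ''ᵁ ⊤ ≤ ⊤) (gsec 𝒜 b hb)
  have hσ : ∀ W : (V : Scheme.{u}).Opens, mres L (le_top : W ≤ ⊤) σ =
      (show Γ(L, W) from mres T (le_top : V.ι ''ᵁ W ≤ ⊤) (gsec 𝒜 b hb)) := fun W =>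
    (InvExt.restrict_mres V.ι T (le_top : W ≤ ⊤) σ).trans (InvExt.mres_mres T _ _ _)
  have hloc : c.locus (show c.sect 1 ⊤ from e.hom.app ⊤ σ) = V.ι ⁻¹ᵁ Proj.basicOpen 𝒜 b := by
    refine le_antisymm (fun y hy => ?_) (c.le_locus_of_isGen e σ ((hσ _).symm ▸ hgen b hb _ le_rfl))
    have h1 := c.isGen_mres_locus e σ
    rw [hσ] at h1
    have h2 := InvExt.isGen_image V.ι T h1
    obtain ⟨b', hb', hy', -⟩ := hN y.1 y.2
    exact notMem_of_isGen hb h2 ⟨y.1, y, hy, rfl⟩ hb' hy'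
  refine ⟨0, e.hom.app ⊤ σ, ?_⟩
  rw [hloc]
  refine ⟨hxb, (Proj.isAffineOpen_basicOpen 𝒜 b hb hN0).preimage_of_isOpenImmersion V.ι ?_⟩
  rw [Scheme.Opens.opensRange_ι]
  exact hbV

theorem exists_isAmple_pullback {X : Scheme.{u}} [CompactSpace X] (j : X ⟶ Proj 𝒜) [IsOpenImmersion j] :
    ∃ d : ℕ, 0 < d ∧ CohB1.IsAmple ((Scheme.Modules.pullback j).obj (Twist.twist 𝒜 (d : ℤ))) := by
  classical
  have hloc : ∀ x : X, ∃ (d : ℕ) (f : A), 0 < d ∧ f ∈ 𝒜 d ∧ j x ∈ Proj.basicOpen 𝒜 f := fun x => by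
    obtain ⟨⟨⟨d, hd⟩, ⟨f, hf⟩⟩, hx⟩ :=
      Opens.mem_iSup.mp ((iSup_basicOpen_pos (𝒜 := 𝒜)).ge (Opens.mem_top (j x)))
    exact ⟨d, f, hd, hf, hx⟩
  choose d f hd hf hx using hloc
  obtain ⟨t, ht⟩ := isCompact_univ.elim_finite_subcover (fun x => ((j ⁻¹ᵁ Proj.basicOpen 𝒜 (f x) : X.Opens) : Set X))
    (fun x => (j ⁻¹ᵁ Proj.basicOpen 𝒜 (f x)).2) (fun x _ => Set.mem_iUnion.mpr ⟨x, hx x⟩)
  let N := ∏ x : t, d x.1
  have hN0 : 0 < N := Finset.prod_pos fun x _ => hd _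
  let V : (Proj 𝒜).Opens := ⨆ x : t, Proj.basicOpen 𝒜 (f x.1)
  have hVc : IsCompact (V : Set (Proj 𝒜)) := by
    rw [Opens.coe_iSup]
    exact isCompact_iUnion fun x => (Proj.isAffineOpen_basicOpen 𝒜 _ (hf _) (hd _)).isCompact
  haveI : CompactSpace (V : Scheme.{u}) := isCompact_iff_compactSpace.mp hVc
  have hN : ∀ y ∈ V, ∃ b ∈ 𝒜 N, y ∈ Proj.basicOpen 𝒜 b ∧ Proj.basicOpen 𝒜 b ≤ V := fun y hy => by
    obtain ⟨x, hxy⟩ := Opens.mem_iSup.mp hy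
    obtain ⟨q, hq⟩ : d x.1 ∣ N := Finset.dvd_prod_of_mem (fun x : t => d x.1) (Finset.mem_univ x)
    have hq0 : 0 < q := Nat.pos_of_ne_zero fun h => by simp [h] at hq; omega
    refine ⟨f x.1 ^ q, by simpa [hq, mul_comm] using SetLike.pow_mem_graded q (hf x.1), ?_, ?_⟩
    · rw [Proj.basicOpen_pow 𝒜 _ q hq0]; exact hxy
    · rw [Proj.basicOpen_pow 𝒜 _ q hq0]; exact le_iSup (fun x : t => Proj.basicOpen 𝒜 (f x.1)) x
  refine ⟨N, hN0, Ample.isAmple_pullback_of_range_le j V.ι ?_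
    ((Ample.isAmple_iff_of_iso ((Scheme.Modules.restrictFunctorIsoPullback V.ι).app _)).mp
      (isAmple_twist_restrict hN0 hN))⟩
  rintro _ ⟨x, rfl⟩
  obtain ⟨x', hx', hxx⟩ := Set.mem_iUnion₂.mp (ht (Set.mem_univ x))
  exact (Scheme.Opens.range_ι V).ge (Opens.mem_iSup.mpr ⟨⟨x', hx'⟩, hxx⟩)

end GrothLib.GrTilde
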