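import Groth.Agent.Lib.GrTilde.QCoh
import Groth.Agent.Lib.GrTilde.Graded
import Groth.Agent.Lib.GradedAlg.Basic
import Groth.Agent.Lib.QCoh.FT
import Groth.Prelude.Def_CohB1

/-!
# `M~` is of finite type for `M` with finitely generated tail
-/

universe u

set_option backward.isDefEq.respectTransparency false
set_option maxHeartbeats 400000

open AlgebraicGeometry CategoryTheory TopologicalSpace Opposite DirectSum
open GrothLib.Ample.ProjTwist (ev fracO)

noncomputable section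

namespace GrothLib.GrTilde

variable {R A : Type u} [CommRing R] [CommRing A] [Algebra R A] (𝒜 : ℕ → Submodule R A) [GradedAlgebra 𝒜]
variable {M : Type u} [AddCommGroup M] [Module R M] [Module A M] (ℳ : ℕ → Submodule R M)
variable [SetLike.GradedSMul 𝒜 ℳ]

theorem pow_mem_mul {d : ℕ} {f : A} (hf : f ∈ 𝒜 d) (k : ℕ) : f ^ k ∈ 𝒜 (k * d) := by
  simpa [smul_eq_mul] using SetLike.pow_mem_graded k hf

/-- `m / f ^ k`. -/
def fracPow {d : ℕ} {f : A} (hf : f ∈ 𝒜 d) (k : ℕ) :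
    ℳ (k * d) →+ Γ(_root_.GrTilde.tilde 𝒜 ℳ 0, Proj.basicOpen 𝒜 f) where
  toFun m := fracM (n := 0) (V := Proj.basicOpen 𝒜 f) (m : M) (f ^ k) m.2 (pow_mem_mul 𝒜 hf k)
    (fun y hy => y.2 (y.1.isPrime.mem_of_pow_mem k hy)) (Or.inl (by simp))
  map_zero' := evM_ext fun y => by
    rw [evM_fracM, evM_zero, ZeroMemClass.coe_zero, LocalizedModule.zero_mk]
  map_add' m m' := evM_ext fun y => by
    rw [evM_add, evM_fracM, evM_fracM, evM_fracM, Submodule.coe_add, LocalizedModule.mk_add_mk,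
      LocalizedModule.mk_eq]
    exact ⟨1, by simp only [Submonoid.smul_def, OneMemClass.coe_one, one_smul, Submonoid.coe_mul, smul_add,
      mul_smul]⟩

theorem evM_fracPow {d : ℕ} {f : A} (hf : f ∈ 𝒜 d) (k : ℕ) (m : ℳ (k * d)) (y : Proj.basicOpen 𝒜 f) :
    evM y (fracPow 𝒜 ℳ hf k m) = LocalizedModule.mk (m : M)
      (⟨f ^ k, fun hy => y.2 (y.1.isPrime.mem_of_pow_mem k hy)⟩ :
        y.1.asHomogeneousIdeal.toIdeal.primeCompl) := rfl

theorem fracPow_smul {d : ℕ} {f : A} (hf : f ∈ 𝒜 d) {Q k K : ℕ} (h : Q + k = K) (a : A) (ha : a ∈ 𝒜 (Q * d))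
    (w : ℳ (k * d)) (m : ℳ (K * d)) (hm : (m : M) = a • (w : M)) :
    fracPow 𝒜 ℳ hf K m = fracO (V := Proj.basicOpen 𝒜 f) a (f ^ Q) ha (pow_mem_mul 𝒜 hf Q)
      (fun y hy => y.2 (y.1.isPrime.mem_of_pow_mem Q hy)) • fracPow 𝒜 ℳ hf k w := by
  refine evM_ext fun y => ?_
  rw [evM_smul, evM_fracPow, evM_fracPow, Ample.ProjTwist.ev_fracO, LocalizedModule.mk_smul_mk, LocalizedModule.mk_eq]
  exact ⟨1, by simp only [Submonoid.smul_def, OneMemClass.coe_one, one_smul, Submonoid.coe_mul, hm, ← pow_add, h]⟩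

variable [DirectSum.Decomposition ℳ]

include 𝒜 in
theorem decompose_smul_of_lt {i : ℕ} {m : M} (hm : m ∈ ℳ i) (a : A) {j : ℕ} (hj : j < i) :
    ((decompose ℳ (a • m) j : ℳ j) : M) = 0 := by
  classical
  refine DirectSum.Decomposition.inductionOn 𝒜 (motive := fun a : A =>
    ((decompose ℳ (a • m) j : ℳ j) : M) = 0) ?_ ?_ ?_ a
  · simp
  · intro k b
    exact decompose_of_mem_ne ℳ (smul_mem b.2 hm) (by omega)
  · intro x y hx hy
    rw [add_smul, decompose_add, DirectSum.add_apply, Submodule.coe_add, hx, hy, add_zero]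

theorem moduleFinite_sections {d : ℕ} (hd : 0 < d) {f : A} (hf : f ∈ 𝒜 d) [Algebra.FiniteType (𝒜 0) A]
    (s : Finset M) (hs : ∀ z ∈ s, ∃ e, z ∈ ℳ e) (n : ℕ)
    (hgen : ∀ k, n ≤ k → ∀ m ∈ ℳ k, m ∈ Submodule.span A (s : Set M)) :
    Module.Finite Γ(Proj 𝒜, Proj.basicOpen 𝒜 f)
      Γ(_root_.GrTilde.tilde 𝒜 ℳ 0, Proj.basicOpen 𝒜 f) := by
  classical
  obtain ⟨N, g, δ, -, hg, hadj⟩ := GradedAlg.exists_homogeneous_generators 𝒜
  choose e he using hs
  let mon : (Fin N → ℕ) → A := fun k => ∏ i, g i ^ k i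
  let deg : (Fin N → ℕ) → ℕ := fun k => ∑ i, k i * δ i
  have hmon : ∀ k, mon k ∈ 𝒜 (deg k) := fun k => GradedAlg.monomial_mem 𝒜 hg k
  let I := {p : {z : M // z ∈ s} × (Fin N → Fin d) //
    d ∣ deg (fun i => (p.2 i : ℕ)) + e p.1.1 p.1.2}
  let G : I → Γ(_root_.GrTilde.tilde 𝒜 ℳ 0, Proj.basicOpen 𝒜 f) := fun p =>
    fracPow 𝒜 ℳ hf ((deg (fun i => (p.1.2 i : ℕ)) + e p.1.1.1 p.1.1.2) / d)
      ⟨mon (fun i => (p.1.2 i : ℕ)) • p.1.1.1, by
        rw [Nat.div_mul_cancel p.2]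
        exact smul_mem (hmon _) (he _ p.1.1.2)⟩
  let S := Submodule.span Γ(Proj 𝒜, Proj.basicOpen 𝒜 f) (Set.range G)
  suffices hS : S = ⊤ by
    have : Finite I := inferInstance
    exact ⟨hS ▸ Submodule.fg_span (Set.finite_range G)⟩
  have key : ∀ (z : M) (hz : z ∈ s) (K : ℕ), e z hz ≤ K * d → ∀ x ∈ 𝒜 (K * d - e z hz),
      ∀ (m : ℳ (K * d)), (m : M) = x • z → fracPow 𝒜 ℳ hf K m ∈ S := by
    intro z hz K hK x hx
    let P : A → Prop := fun x => ∃ h : x • z ∈ ℳ (K * d), fracPow 𝒜 ℳ hf K ⟨x • z, h⟩ ∈ S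
    suffices hP : P x by
      obtain ⟨h, hh⟩ := hP
      intro m hm
      rw [show m = ⟨x • z, h⟩ from Subtype.ext hm]
      exact hh
    have h0 := GradedAlg.mem_span_monomials 𝒜 hg hadj hx
    have hPadd : ∀ x y, P x → P y → P (x + y) := by
      rintro x y ⟨h1, h1'⟩ ⟨h2, h2'⟩
      refine ⟨by rw [add_smul]; exact add_mem h1 h2, ?_⟩
      have : (⟨(x + y) • z, by rw [add_smul]; exact add_mem h1 h2⟩ : ℳ (K * d)) = ⟨x • z, h1⟩ + ⟨y • z, h2⟩ :=
        Subtype.ext (add_smul x y z)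
      rw [this, map_add]
      exact add_mem h1' h2'
    have hPzero : P 0 := by
      refine ⟨by rw [zero_smul]; exact zero_mem _, ?_⟩
      have : (⟨(0 : A) • z, by rw [zero_smul]; exact zero_mem _⟩ : ℳ (K * d)) = 0 := Subtype.ext (zero_smul A z)
      rw [this, map_zero]
      exact zero_mem _
    rw [← Submodule.mem_toAddSubmonoid, Submodule.span_eq_closure] at h0
    clear hx
    induction h0 using AddSubmonoid.closure_induction with
    | zero => exact hPzero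
    | add x y _ _ hx hy => exact hPadd x y hx hy
    | mem x hx =>
      obtain ⟨c, -, _, ⟨k, hk, rfl⟩, rfl⟩ := hx
      let q : Fin N → ℕ := fun i => k i / d
      let r : Fin N → Fin d := fun i => ⟨k i % d, Nat.mod_lt _ hd⟩
      have hkq : ∀ i, k i = d * q i + (r i : ℕ) := fun i => (Nat.div_add_mod (k i) d).symm
      have hdeg : deg k = deg q * d + deg (fun i => (r i : ℕ)) := by
        simp only [deg, Finset.sum_mul, ← Finset.sum_add_distrib]
        exact Finset.sum_congr rfl fun i _ => by rw [hkq i]; ring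
      have hmk : mon k = mon q ^ d * mon (fun i => (r i : ℕ)) := by
        simp only [mon, ← Finset.prod_pow, ← Finset.prod_mul_distrib]
        exact Finset.prod_congr rfl fun i _ => by rw [hkq i, pow_add, pow_mul, ← pow_mul, mul_comm d, pow_mul]
      have hsum : deg q * d + (deg (fun i => (r i : ℕ)) + e z hz) = K * d := by
        rw [← Nat.add_assoc, ← hdeg, show deg k = K * d - e z hz from hk, Nat.sub_add_cancel hK]
      have hdvd : d ∣ deg (fun i => (r i : ℕ)) + e z hz :=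
        (Nat.dvd_add_right (Dvd.intro_left _ rfl)).1 (hsum ▸ Dvd.intro_left K rfl)
      have hQK : deg q + (deg (fun i => (r i : ℕ)) + e z hz) / d = K := by
        refine Nat.eq_of_mul_eq_mul_right hd ?_
        rw [Nat.add_mul, Nat.div_mul_cancel hdvd, hsum]
      have ha : (c : A) * mon q ^ d ∈ 𝒜 (deg q * d) := by
        rw [mul_comm (deg q)]
        exact GradedAlg.coe_mul_mem 𝒜 c (pow_mem_mul 𝒜 (hmon q) d)
      have hcx : (c • mon k) • z = ((c : A) * mon q ^ d) • mon (fun i => (r i : ℕ)) • z := by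
        rw [← mul_smul, mul_assoc, ← hmk]
        rfl
      have hmem : (c • mon k) • z ∈ ℳ (K * d) := by
        have h2 : (c • mon k) ∈ 𝒜 (K * d - e z hz) := hk ▸ GradedAlg.coe_mul_mem 𝒜 c (hmon k)
        exact Nat.sub_add_cancel hK ▸ smul_mem h2 (he z hz)
      refine ⟨hmem, ?_⟩
      rw [fracPow_smul 𝒜 ℳ hf hQK _ ha
        ⟨mon (fun i => (r i : ℕ)) • z, by rw [Nat.div_mul_cancel hdvd]; exact smul_mem (hmon _) (he z hz)⟩
        ⟨_, hmem⟩ hcx]
      exact Submodule.smul_mem _ _ (Submodule.subset_span ⟨⟨(⟨z, hz⟩, r), hdvd⟩, rfl⟩)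
  refine eq_top_iff.2 fun σ _ => ?_
  obtain ⟨k, -, p, a, hp, ha, hval⟩ := exists_frac 𝒜 hf hd σ
  obtain rfl : p = k * d := by exact_mod_cast (by simpa using hp : (p : ℤ) = (k : ℤ) * d)
  let K := k + n
  have hK : f ^ n • a ∈ ℳ (K * d) := by
    rw [show K * d = n * d + k * d by ring]; exact smul_mem (pow_mem_mul 𝒜 hf n) ha
  have hσ : σ = fracPow 𝒜 ℳ hf K ⟨f ^ n • a, hK⟩ := evM_ext fun y => by
    rw [hval y, evM_fracPow, LocalizedModule.mk_eq]
    refine ⟨1, ?_⟩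
    simp only [Submonoid.smul_def, OneMemClass.coe_one, one_smul, ← mul_smul, K, pow_add]
  rw [hσ]
  have hspan := hgen (K * d) ((Nat.le_add_left n k).trans (Nat.le_mul_of_pos_right _ hd)) _ hK
  suffices H : ∀ x ∈ Submodule.span A (s : Set M), ∀ b : A,
      fracPow 𝒜 ℳ hf K (DirectSum.decompose ℳ (b • x) (K * d)) ∈ S by
    have := H _ hspan 1
    rwa [one_smul, show DirectSum.decompose ℳ (f ^ n • a) (K * d) = ⟨f ^ n • a, hK⟩ from
      Subtype.ext (decompose_of_mem_same ℳ hK)] at this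
  intro x hx
  induction hx using Submodule.span_induction with
  | mem z hz =>
    intro b
    by_cases hle : e z hz ≤ K * d
    · refine key z hz K hle _ (DirectSum.decompose 𝒜 b (K * d - e z hz)).2 _ ?_
      rw [← decompose_smul_of_mem (ℳ := ℳ) (he z hz) b (K * d - e z hz), Nat.sub_add_cancel hle]
    · rw [show DirectSum.decompose ℳ (b • z) (K * d) = 0 from Subtype.ext
        (decompose_smul_of_lt 𝒜 ℳ (he z hz) b (not_le.1 hle)), map_zero]
      exact zero_mem _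
  | zero => intro b; rw [smul_zero, decompose_zero, DirectSum.zero_apply, map_zero]; exact zero_mem _
  | add x y _ _ hx hy =>
    intro b
    rw [smul_add, decompose_add, DirectSum.add_apply, map_add]
    exact add_mem (hx b) (hy b)
  | smul c x _ hx => intro b; rw [← mul_smul]; exact hx _

theorem isFT_tilde (hfg : (HomogeneousIdeal.irrelevant 𝒜).toIdeal.FG)
    (hTF : ∃ n : ℕ, (Submodule.span A (⋃ k ∈ Set.Ici n, (ℳ k : Set M))).FG) :
    CohB1.IsFT (_root_.GrTilde.tilde 𝒜 ℳ 0) := by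
  have := GradedAlg.finiteType_of_irrelevant_fg 𝒜 hfg
  obtain ⟨n, hn⟩ := hTF
  obtain ⟨s, hs, hspan⟩ := (Submodule.fg_span_iff_fg_span_finset_subset _).1 hn
  have : (_root_.GrTilde.tilde 𝒜 ℳ 0).IsQuasicoherent := isQuasicoherent_tilde 0
  refine QCoh.isFiniteType_of_moduleFinite _
    (fun df : Σ d : {d : ℕ // 0 < d}, 𝒜 d.1 => Proj.basicOpen 𝒜 (df.2 : A))
    iSup_basicOpen_pos (fun df => Proj.isAffineOpen_basicOpen 𝒜 _ df.2.2 df.1.2)
    fun df => moduleFinite_sections 𝒜 ℳ df.1.2 df.2.2 s (fun z hz => ?_) n fun k hk m hm => ?_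
  · obtain ⟨k, -, hk⟩ := Set.mem_iUnion₂.1 (hs hz)
    exact ⟨k, hk⟩
  · rw [← hspan]
    exact Submodule.subset_span (Set.mem_iUnion₂.2 ⟨k, Set.mem_Ici.2 hk, hm⟩)

end GrothLib.GrTilde
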