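import Groth.Agent.Lib.GrTilde.Amp

/-!
# Stalks and vanishing of `M(n)~`
-/

universe u

set_option backward.isDefEq.respectTransparency false

open AlgebraicGeometry CategoryTheory CategoryTheory.Limits TopologicalSpace Opposite
open GrothLib.InvExt (mres)
open GrothLib.Ample.ProjTwist (ev fracO)

noncomputable section

namespace GrothLib.GrTilde

variable {R A : Type u} [CommRing R] [CommRing A] [Algebra R A] {𝒜 : ℕ → Submodule R A} [GradedAlgebra 𝒜]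
variable {M : Type u} [AddCommGroup M] [Module R M] [Module A M] {ℳ : ℕ → Submodule R M}
variable [SetLike.GradedSMul 𝒜 ℳ]

theorem exists_section_of_tildeAt {n : ℤ} (p : Proj 𝒜) (q : _root_.GrTilde.LocMod 𝒜 (M := M) p)
    (hq : q ∈ _root_.GrTilde.tildeAt 𝒜 ℳ n p) :
    ∃ (U : (Proj 𝒜).Opens) (hp : p ∈ U) (m : Γ(_root_.GrTilde.tilde 𝒜 ℳ n, U)), evM ⟨p, hp⟩ m = q := by
  unfold _root_.GrTilde.tildeAt at hq
  induction hq using Submodule.span_induction with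
  | mem z hz =>
    obtain ⟨i, j, ⟨a, ha⟩, ⟨s, hs⟩, hsp, hd, rfl⟩ := hz
    exact ⟨Proj.basicOpen 𝒜 s, hsp, fracM a s ha hs (fun y => y.2) (Or.inl hd), rfl⟩
  | zero => exact ⟨⊤, trivial, 0, evM_zero _⟩
  | add z w _ _ hz hw =>
    obtain ⟨U, hp, m, rfl⟩ := hz
    obtain ⟨U', hp', m', rfl⟩ := hw
    exact ⟨U ⊓ U', ⟨hp, hp'⟩, mres _ inf_le_left m + mres _ inf_le_right m', rfl⟩
  | smul c z _ hz =>
    obtain ⟨U, hp, m, rfl⟩ := hz
    obtain ⟨⟨i, ⟨r, hr⟩, ⟨t, ht⟩, htp⟩, rfl⟩ := HomogeneousLocalization.mk_surjective c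
    have hnin : ∀ y : (U ⊓ Proj.basicOpen 𝒜 t : (Proj 𝒜).Opens), t ∉ y.1.asHomogeneousIdeal := fun y => y.2.2
    refine ⟨U ⊓ Proj.basicOpen 𝒜 t, ⟨hp, htp⟩, fracO r t hr ht hnin • mres _ inf_le_left m, ?_⟩
    rw [evM_smul]
    rfl

variable [DirectSum.Decomposition ℳ]

theorem exists_homogeneous_kill {t : ℕ} {d : M} (hd : d ∈ ℳ t) {p : ProjectiveSpectrum 𝒜} {u : A}
    (hu : u ∉ p.asHomogeneousIdeal) (h : u • d = 0) :
    ∃ (i : ℕ) (w : A), w ∈ 𝒜 i ∧ w ∉ p.asHomogeneousIdeal ∧ w • d = 0 := by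
  classical
  by_contra hc
  refine hu ?_
  rw [← DirectSum.sum_support_decompose 𝒜 u]
  refine Submodule.sum_mem (p := p.asHomogeneousIdeal.toIdeal) fun i _ => ?_
  by_contra hi
  refine hc ⟨i, _, SetLike.coe_mem _, hi, ?_⟩
  rw [← decompose_smul_of_mem (ℳ := ℳ) hd u i, h, DirectSum.decompose_zero, DirectSum.zero_apply,
    Submodule.coe_zero]

theorem stalkToFiber_bijective (n : ℤ) (p : ProjectiveSpectrum 𝒜) :
    Function.Bijective (TopCat.stalkToFiber (_root_.GrTilde.isLocFrac 𝒜 ℳ n) p) := by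
  refine ⟨TopCat.stalkToFiber_injective _ _ fun U V fU hU fV hV heq => ?_,
    TopCat.stalkToFiber_surjective _ _ fun q => ?_⟩
  · obtain ⟨U₁, hp₁, i₁, p₁, q₁, ⟨a, ha⟩, ⟨s, hs⟩, nin₁, hd₁, hw₁⟩ := hU ⟨p, U.2⟩
    obtain ⟨U₂, hp₂, i₂, p₂, q₂, ⟨b, hb⟩, ⟨r, hr⟩, nin₂, hd₂, hw₂⟩ := hV ⟨p, V.2⟩
    replace hd₁ : (p₁ : ℤ) = q₁ + n ∨ a = 0 := hd₁
    replace hd₂ : (p₂ : ℤ) = q₂ + n ∨ b = 0 := hd₂
    have e := (hw₁ ⟨p, hp₁⟩).symm.trans ((congrArg Subtype.val heq).trans (hw₂ ⟨p, hp₂⟩))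
    obtain ⟨⟨u, hu⟩, hu'⟩ := LocalizedModule.mk_eq.mp e
    obtain ⟨t, ht⟩ : ∃ t, r • a - s • b ∈ ℳ t := by
      rcases hd₁ with h1 | h1
      · rcases hd₂ with h2 | h2
        · refine ⟨q₂ + p₁, sub_mem (smul_mem hr ha) ?_⟩
          rw [show q₂ + p₁ = q₁ + p₂ by omega]
          exact smul_mem hs hb
        · exact ⟨q₂ + p₁, by rw [h2, smul_zero, sub_zero]; exact smul_mem hr ha⟩
      · exact ⟨q₁ + p₂, by rw [h1, smul_zero, zero_sub]; exact neg_mem (smul_mem hs hb)⟩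
    obtain ⟨i, w, -, hwp, hw⟩ := exists_homogeneous_kill ht hu
      (by rw [smul_sub, sub_eq_zero]; exact hu')
    let W : Opens (ProjectiveSpectrum.top 𝒜) := U₁ ⊓ U₂ ⊓ ProjectiveSpectrum.basicOpen 𝒜 w
    refine ⟨⟨W, ⟨⟨hp₁, hp₂⟩, hwp⟩⟩,
      homOfLE ((inf_le_left.trans inf_le_left).trans (leOfHom i₁) : W ≤ U.1),
      homOfLE ((inf_le_left.trans inf_le_right).trans (leOfHom i₂) : W ≤ V.1), fun y => ?_⟩
    refine Subtype.ext ((hw₁ ⟨y.1, y.2.1.1⟩).trans (Eq.trans ?_ (hw₂ ⟨y.1, y.2.1.2⟩).symm))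
    refine LocalizedModule.mk_eq.mpr ⟨⟨w, y.2.2⟩, ?_⟩
    rw [smul_sub, sub_eq_zero] at hw
    exact hw
  · obtain ⟨U, hp, m, hm⟩ := exists_section_of_tildeAt p q.1 q.2
    exact ⟨⟨U, hp⟩, (show _root_.GrTilde.sect 𝒜 ℳ n (op U) from m).1,
      (show _root_.GrTilde.sect 𝒜 ℳ n (op U) from m).2, Subtype.ext hm⟩

theorem isZero_tilde (n : ℤ)
    (h : ∀ (z : M) (d : ℕ) (f : A), 0 < d → f ∈ 𝒜 d → ∃ k : ℕ, f ^ k • z = 0) :
    IsZero (_root_.GrTilde.tilde 𝒜 ℳ n) := by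
  have h0 : ∀ (V : (Proj 𝒜).Opens) (m : Γ(_root_.GrTilde.tilde 𝒜 ℳ n, V)), m = 0 := fun V m => evM_ext fun y => by
    obtain ⟨U, hy, iU, p, q, ⟨a, ha⟩, ⟨s, hs⟩, nin, hd, hw⟩ :=
      (show _root_.GrTilde.sect 𝒜 ℳ n (op V) from m).2 y
    obtain ⟨⟨⟨d, hd0⟩, ⟨f, hf⟩⟩, hyf⟩ :=
      Opens.mem_iSup.mp ((iSup_basicOpen_pos (𝒜 := 𝒜)).ge (Opens.mem_top y.1))
    obtain ⟨k, hk⟩ := h a d f hd0 hf
    rw [show evM y m = _ from hw ⟨y.1, hy⟩, evM_zero,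
      ← LocalizedModule.zero_mk (1 : y.1.asHomogeneousIdeal.toIdeal.primeCompl)]
    refine LocalizedModule.mk_eq.mpr ⟨⟨f ^ k, fun hm => hyf (y.1.isPrime.mem_of_pow_mem _ hm)⟩, ?_⟩
    simp only [one_smul, smul_zero, Submonoid.smul_def, hk]
  rw [IsZero.iff_id_eq_zero]
  refine Scheme.Modules.hom_ext _ _ fun V => ?_
  ext m
  exact (h0 V m).trans (h0 V _).symm

theorem pow_smul_eq_zero_of_isZero
    (hgen : (HomogeneousIdeal.irrelevant 𝒜).toIdeal = Ideal.span (𝒜 1 : Set A))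
    (h : IsZero (_root_.GrTilde.tilde 𝒜 ℳ 0)) (z : M) (d : ℕ) (f : A) (hd : 0 < d) (hf : f ∈ 𝒜 d) :
    ∃ k : ℕ, f ^ k • z = 0 := by
  classical
  have h0 : ∀ (V : (Proj 𝒜).Opens) (m : Γ(_root_.GrTilde.tilde 𝒜 ℳ 0, V)), m = 0 := fun V m => by
    exact congrArg (fun φ : _root_.GrTilde.tilde 𝒜 ℳ 0 ⟶ _root_.GrTilde.tilde 𝒜 ℳ 0 => φ.app V m)
      ((IsZero.iff_id_eq_zero _).mp h)
  have h1 : ∀ (i : ℕ) (m : M), m ∈ ℳ i → ∃ k, f ^ k • m = 0 := fun i m hm =>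
    exists_pow_smul_eq_zero 𝒜 hf hd hm fun y hy => by
      obtain ⟨g, hg, hgy⟩ := exists_degree_one hgen y
      have hgi : g ^ i ∈ 𝒜 i := Ample.ProjTwist.pow_mem 𝒜 hg i
      have hgy' : g ^ i ∉ y.asHomogeneousIdeal := fun hm => hgy (y.isPrime.mem_of_pow_mem _ hm)
      have e := congrArg (evM (⟨y, hgy'⟩ : Proj.basicOpen 𝒜 (g ^ i)))
        (h0 _ (fracM (n := 0) (V := Proj.basicOpen 𝒜 (g ^ i)) m (g ^ i) hm hgi (fun z => z.2) (Or.inl (by simp))))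
      rw [evM_fracM, evM_zero, ← LocalizedModule.zero_mk (1 : y.asHomogeneousIdeal.toIdeal.primeCompl)] at e
      obtain ⟨u, hu⟩ := LocalizedModule.mk_eq.mp e
      exact ⟨u.1, u.2, by simpa [Submonoid.smul_def] using hu⟩
  choose K hK using h1
  let S := (DirectSum.decompose ℳ z).support
  let N := S.sup fun i => K i _ (SetLike.coe_mem (DirectSum.decompose ℳ z i))
  refine ⟨N, ?_⟩
  rw [← DirectSum.sum_support_decompose ℳ z, Finset.smul_sum]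
  refine Finset.sum_eq_zero fun i hi => ?_
  obtain ⟨e, he⟩ := Nat.exists_eq_add_of_le
    (Finset.le_sup (f := fun i => K i _ (SetLike.coe_mem (DirectSum.decompose ℳ z i))) hi)
  rw [show N = _ from he, add_comm, pow_add, mul_smul, hK, smul_zero]

theorem mem_basicOpen_iff_span_eq_top
    (hgen : (HomogeneousIdeal.irrelevant 𝒜).toIdeal = Ideal.span (𝒜 1 : Set A))
    {d : ℕ} (f : 𝒜 d) (p : ProjectiveSpectrum 𝒜) :
    p ∈ ProjectiveSpectrum.basicOpen 𝒜 (f : A) ↔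
      Submodule.span (Twist.A0 𝒜 p) {(Twist.globalOf 𝒜 f).1 ⟨p, trivial⟩} = ⊤ := by
  constructor
  · intro hp
    refine eq_top_iff.mpr fun q _ => ?_
    obtain ⟨U, hpU, m, hm⟩ := exists_section_of_tildeAt (ℳ := 𝒜) (n := (d : ℤ)) p q.1 q.2
    let V : (Proj 𝒜).Opens := U ⊓ Proj.basicOpen 𝒜 (f : A)
    obtain ⟨r, hr⟩ := (isGen_gsec f.2 V inf_le_right).2 (mres (Twist.twist 𝒜 (d : ℤ)) inf_le_left m)
    refine Submodule.mem_span_singleton.mpr ⟨(show Twist.O (op V) from r).1 ⟨p, hpU, hp⟩, Subtype.ext ?_⟩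
    have e := congrArg (Ample.ProjTwist.evT (⟨p, hpU, hp⟩ : V)) hr
    rw [Ample.ProjTwist.evT_smul, Ample.ProjTwist.evT_mres, Ample.ProjTwist.evT_mres, Ample.ProjTwist.evT_mres] at e
    refine (Twist.coe_smul_val _ _ _ _).trans (e.trans hm)
  · intro h
    obtain ⟨g, hg, hgp⟩ := exists_degree_one hgen p
    have hgd : g ^ d ∈ 𝒜 d := Ample.ProjTwist.pow_mem 𝒜 hg d
    obtain ⟨c, hc⟩ := Submodule.mem_span_singleton.mp
      (h.ge (Submodule.mem_top (x := (Twist.globalOf 𝒜 ⟨g ^ d, hgd⟩).1 ⟨p, trivial⟩)))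
    have e : c.val * Localization.mk (f : A) (1 : p.asHomogeneousIdeal.toIdeal.primeCompl) =
        Localization.mk (g ^ d) 1 := (Twist.coe_smul_val _ _ _ _).symm.trans (congrArg Subtype.val hc)
    rw [Localization.mk_one_eq_algebraMap, Localization.mk_one_eq_algebraMap] at e
    have hu : IsUnit (algebraMap A (Twist.Loc 𝒜 p) (g ^ d)) :=
      IsLocalization.map_units _ (⟨g ^ d, fun hm => hgp (p.isPrime.mem_of_pow_mem _ hm)⟩ :
        p.asHomogeneousIdeal.toIdeal.primeCompl)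
    rw [← e] at hu
    exact (IsLocalization.AtPrime.isUnit_to_map_iff _ p.asHomogeneousIdeal.toIdeal (f : A)).mp
      (isUnit_of_mul_isUnit_right hu)

end GrothLib.GrTilde
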